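import Groth.Agent.EtPur.SkySections
import Groth.Agent.EtPur.MuStalk
import Groth.Agent.EtPur.BlowCoh
import Groth.Agent.EtPBC.TopShriek
import Groth.Agent.EtPBC.AffineCurve
import Groth.Agent.EtGmKummer.Basic
import Groth.Agent.EtAcycX.PointAcyc
import Groth.Agent.EtMV.Sect
import Groth.Agent.HLocTwo.ExtCons
import Mathlib

/-!
Cohomology of the extension by zero of constants from the complement of finitely many points.
-/

set_option autoImplicit false
set_option backward.isDefEq.respectTransparency false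
set_option backward.isDefEq.respectTransparency.types false
set_option linter.unusedSectionVars false
set_option linter.auxLemma false
set_option linter.overlappingInstances false
set_option linter.style.haveILetI false
set_option maxHeartbeats 1000000
set_option synthInstance.maxHeartbeats 400000

universe u

open CategoryTheory CategoryTheory.Limits CategoryTheory.Abelian AlgebraicGeometry Opposite

noncomputable section

namespace Groth.Agent.EtPunctLine

attribute [local instance 100000] EtCoh.H._proof_1 Groth.Agent.EtMV.hext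
attribute [local instance 200000] Groth.Agent.EtMV.hextAb

open EtPBC (ZeroAt)
open EtMV (cst κ)

variable {X : Scheme.{u}} [ConnectedSpace X] {M : Type} [AddCommGroup M]

/-- a map out of the integers into constants, killed by the restriction to a point, vanishes -/
theorem eq_zero_of_unit_point [Nonempty X] (x : X) (hx : IsClosed ({x} : Set X))
    (φ : EtCoh.const X ℤ ⟶ EtCoh.const X M)
    (h : φ ≫ (EtCoh.pullPushAdj (X.fromSpecResidueField x)).unit.app (EtCoh.const X M) = 0) : φ = 0 := by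
  let i := X.fromSpecResidueField x
  haveI : IsClosedImmersion i := isClosed_singleton_iff_isClosedImmersion.1 hx
  obtain ⟨Ω, _, _, ξ, hξ, hb⟩ := EtPBC.bijective_stalk_unit_at i (EtPushStalk.liftProp_of_closedImmersion i)
    (EtCoh.const X M) default (Scheme.fromSpecResidueField_apply x default)
  obtain ⟨m, hm⟩ := EtAcycX.cst_top_surjective (κ φ)
  have h0 : (EtCoh.stalk ξ).map φ = 0 := by
    have hh : (EtCoh.stalk ξ).map φ ≫ (EtCoh.stalk ξ).map ((EtCoh.pullPushAdj i).unit.app (EtCoh.const X M)) = 0 := by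
      rw [← Functor.map_comp, h, Functor.map_zero]
    ext z
    exact hb.1 ((ConcreteCategory.congr_hom hh z).trans (map_zero _).symm)
  let Φ := Scheme.pointSmallEtale ξ
  let x₀ : Φ.fiber.obj (EtCoh.top X) :=
    (Over.homMk ξ (Category.comp_id _) : Over.mk ξ ⟶ (Scheme.Etale.forget X).obj (EtCoh.top X))
  have hg : Φ.toPresheafFiber (EtCoh.top X) x₀ (EtCoh.const X M).obj (cst (EtCoh.top X) m) =
      Φ.toPresheafFiber (EtCoh.top X) x₀ (EtCoh.const X M).obj (cst (EtCoh.top X) 0) := by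
    have e1 : (EtCoh.stalk ξ).map φ (Φ.toPresheafFiber (EtCoh.top X) x₀ (EtCoh.const X ℤ).obj (EtMV.one X)) =
        Φ.toPresheafFiber (EtCoh.top X) x₀ (EtCoh.const X M).obj (κ φ) :=
      GrothendieckTopology.Point.toPresheafFiber_naturality_apply Φ φ.hom _ _ _
    rw [h0] at e1
    have hm0 : cst (EtCoh.top X) (0 : M) = 0 := map_zero (EtMV.cstHom (EtCoh.top X))
    rw [show cst (EtCoh.top X) m = κ φ from hm, hm0, map_zero, ← e1]
    rfl
  obtain ⟨W, g, y, -, hgy⟩ := (Φ.toPresheafFiber_eq_iff' (P := (EtCoh.const X M).obj) (EtCoh.top X) x₀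
    (cst (EtCoh.top X) m) (cst (EtCoh.top X) 0)).mp hg
  have hm0 : m = 0 := EtMV.cst_inj (W := W)
    ((y : Over.mk ξ ⟶ (Scheme.Etale.forget X).obj W).left.base (default : Spec (CommRingCat.of Ω)))
    ((EtMV.res_cst g m).symm.trans (hgy.trans (EtMV.res_cst g 0)))
  refine (EtMV.κ_bijective _).1 ?_
  show κ φ = κ (0 : EtCoh.const X ℤ ⟶ EtCoh.const X M)
  rw [← hm, hm0]
  exact map_zero (EtMV.cstHom (EtCoh.top X))

variable {U : Scheme.{u}} (j : U ⟶ X) [IsOpenImmersion j] [Etale j] [EtShriek.JCont j]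

/-- extension by zero of constants from the complement of finitely many rational points -/
theorem extZero_const (n : ℕ) [NeZero n] (S : Finset X) (hS : ∀ x ∈ S, IsClosed ({x} : Set X))
    (hsep : ∀ x ∈ S, IsSepClosed (X.residueField x)) (hne : S.Nonempty) (hj : ∀ x, x ∉ Set.range j ↔ x ∈ S)
    (h1 : Subsingleton (EtCoh.H X (EtCoh.const X (ZMod n)) 1)) :
    Subsingleton (EtCoh.H X ((EtShriek.extZero j).obj ((EtShriek.restrAlong j).obj (EtCoh.const X (ZMod n)))) 0) ∧
    Nonempty (EtCoh.H X ((EtShriek.extZero j).obj ((EtShriek.restrAlong j).obj (EtCoh.const X (ZMod n)))) 1 ≃+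
      (Fin (S.card - 1) → ZMod n)) := by
  classical
  haveI : Nonempty X := ⟨hne.choose⟩
  obtain ⟨x₀, hx₀⟩ := hne
  let G := EtCoh.const X (ZMod n)
  let c : (EtShriek.extZero j).obj ((EtShriek.restrAlong j).obj G) ⟶ G := (EtShriek.extZeroAdj j).counit.app G
  haveI : Mono c := EtPBC.mono_counit j G
  let Q := cokernel c
  let T : ShortComplex (EtCoh.Ab X) := ShortComplex.mk c (cokernel.π c) (cokernel.condition c)
  have hT : T.ShortExact := { exact := ShortComplex.exact_of_g_is_cokernel _ (cokernelIsCokernel c) }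
  let i := X.fromSpecResidueField x₀
  haveI : IsClosedImmersion i := isClosed_singleton_iff_isClosedImmersion.1 (hS x₀ hx₀)
  haveI := EtPullExact.pull_preservesFiniteLimits i
  let u := (EtCoh.pullPushAdj i).unit.app G
  have hpj : ∀ x ∈ S, IsZero ((EtCoh.pull (X.fromSpecResidueField x)).obj T.X₁) := fun x hx =>
    EtPBC.isZero_of_zeroAt _ fun y => EtPBC.zeroAt_pull _ _ y (EtPBC.Lam.zeroAt_extZero j _ (by
      rw [Scheme.fromSpecResidueField_apply]; exact (hj x).2 hx))
  have hcu : c ≫ u = 0 := by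
    refine ((EtCoh.pullPushAdj i).unit.naturality c).trans ?_
    exact ((IsZero.eq_of_tgt ((EtCoh.push i).map_isZero (hpj x₀ hx₀))
      ((EtCoh.pullPushAdj i).unit.app T.X₁) 0) ▸ zero_comp)
  let v : Q ⟶ (EtCoh.push i).obj ((EtCoh.pull i).obj G) := cokernel.desc c u hcu
  have hker : ∀ φ : EtCoh.const X ℤ ⟶ G, φ ≫ cokernel.π c ≫ v = 0 → φ = 0 := fun φ hφ => by
    rw [cokernel.π_desc] at hφ
    exact eq_zero_of_unit_point x₀ (hS x₀ hx₀) φ hφ
  -- degree zero
  have hA0 : Subsingleton (Ext (EtCoh.const X ℤ) T.X₁ 0) := by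
    refine subsingleton_of_forall_eq 0 fun x => ?_
    obtain ⟨φ, rfl⟩ := (Ext.mk₀_bijective _ _).2 x
    have h0 : φ ≫ c = 0 := hker _ (by
      rw [Category.assoc, ← Category.assoc c, cokernel.condition, zero_comp, comp_zero])
    rw [zero_of_comp_mono c h0, Ext.mk₀_zero]
  refine ⟨hA0, ?_⟩
  let δ : Ext (EtCoh.const X ℤ) Q 0 →+ Ext (EtCoh.const X ℤ) T.X₁ 1 :=
    hT.extClass.postcomp (EtCoh.const X ℤ) (rfl : 0 + 1 = 1)
  let w : kernel v ⟶ Q := kernel.ι v
  let a : Ext (EtCoh.const X ℤ) (kernel v) 0 →+ Ext (EtCoh.const X ℤ) T.X₁ 1 :=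
    δ.comp ((Ext.mk₀ w).postcomp _ (add_zero 0))
  let P := (EtCoh.push i).obj ((EtCoh.pull i).obj G)
  -- sections at the marked point
  obtain ⟨eG⟩ := EtPur.nonempty_H_zero_const X (ZMod n)
  haveI : ConnectedSpace ↥(Spec (X.residueField x₀)) := by
    haveI : IrreducibleSpace ↥(Spec (X.residueField x₀)) :=
      inferInstanceAs (IrreducibleSpace (PrimeSpectrum (X.residueField x₀)))
    infer_instance
  obtain ⟨p₁⟩ := EtPur.nonempty_H_push i (EtCoh.const (Spec (X.residueField x₀)) (ZMod n))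
    (fun q => EtIntegral.Rpush_succ_isZero i _ q) 0
  obtain ⟨p₂⟩ := EtPur.nonempty_H_zero_const (Spec (X.residueField x₀)) (ZMod n)
  let eP : Ext (EtCoh.const X ℤ) P 0 ≃+ ZMod n :=
    (((EtCoh.HF X 0).mapIso ((EtCoh.push i).mapIso (EtCore.pullConst i (ZMod n)))).addCommGroupIsoToAddEquiv.trans p₁).trans p₂
  let U₀ : Ext (EtCoh.const X ℤ) G 0 →+ Ext (EtCoh.const X ℤ) P 0 :=
    (Ext.mk₀ (cokernel.π c ≫ v)).postcomp _ (add_zero 0)
  have hU₀i : Function.Injective U₀ := (injective_iff_map_eq_zero _).2 fun x hx => by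
    obtain ⟨φ, rfl⟩ := (Ext.mk₀_bijective _ _).2 x
    change Ext.comp (Ext.mk₀ φ) (Ext.mk₀ (cokernel.π c ≫ v)) (add_zero 0) = 0 at hx
    rw [Ext.mk₀_comp_mk₀, ← Ext.mk₀_zero] at hx
    rw [hker φ ((Ext.mk₀_bijective _ _).1 hx), Ext.mk₀_zero]
  have hU₀ : Function.Bijective U₀ := by
    let f : ZMod n → ZMod n := fun z => eP (U₀ (eG.symm z))
    have hf : Function.Surjective f :=
      Finite.injective_iff_surjective.1 (eP.injective.comp (hU₀i.comp eG.symm.injective))
    refine ⟨hU₀i, fun y => ?_⟩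
    obtain ⟨z, hz⟩ := hf (eP y)
    exact ⟨eG.symm z, eP.injective hz⟩
  have hai : Function.Injective a := (injective_iff_map_eq_zero _).2 fun x hx => by
    obtain ⟨φ, rfl⟩ := (Ext.mk₀_bijective _ _).2 x
    obtain ⟨g, hg⟩ := Ext.covariant_sequence_exact₃ (EtCoh.const X ℤ) hT
      ((Ext.mk₀ φ).comp (Ext.mk₀ w) (add_zero 0)) (rfl : 0 + 1 = 1) hx
    have h2 : U₀ g = 0 := by
      show Ext.comp g (Ext.mk₀ (cokernel.π c ≫ v)) (add_zero 0) = 0
      rw [← Ext.mk₀_comp_mk₀, ← Ext.comp_assoc_of_second_deg_zero]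
      erw [hg]
      rw [Ext.mk₀_comp_mk₀, Ext.mk₀_comp_mk₀, Category.assoc, kernel.condition, comp_zero, Ext.mk₀_zero]
    have hg0 : g = 0 := hU₀i (h2.trans (map_zero _).symm)
    rw [hg0, Ext.zero_comp, Ext.mk₀_comp_mk₀, eq_comm, ← Ext.mk₀_zero] at hg
    rw [zero_of_comp_mono w ((Ext.mk₀_bijective _ _).1 hg), Ext.mk₀_zero]
  have has : Function.Surjective a := fun y => by
    haveI : Subsingleton (Ext (EtCoh.const X ℤ) T.X₂ 1) := h1
    obtain ⟨q, rfl⟩ := Ext.covariant_sequence_exact₁ (EtCoh.const X ℤ) hT y (Subsingleton.elim _ _) (zero_add 1)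
    obtain ⟨g, hg⟩ := hU₀.2 (Ext.comp q (Ext.mk₀ v) (add_zero 0))
    let g' : Ext (EtCoh.const X ℤ) Q 0 := g.comp (Ext.mk₀ (cokernel.π c)) (add_zero 0)
    have hδ : δ g' = 0 := by
      show Ext.comp g' hT.extClass rfl = 0
      rw [Ext.comp_assoc _ _ _ (add_zero 0) (zero_add 1) (by omega)]
      erw [hT.comp_extClass]
      simp only [Ext.comp_zero]
    obtain ⟨θ, hθ⟩ := (Ext.mk₀_bijective _ _).2 (q - g')
    have hθv : θ ≫ v = 0 := by
      refine (Ext.mk₀_bijective _ _).1 ?_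
      rw [← Ext.mk₀_comp_mk₀, Ext.mk₀_zero, hθ]
      show ((Ext.mk₀ v).postcomp (EtCoh.const X ℤ) (add_zero 0)) (q - g') = 0
      rw [map_sub, sub_eq_zero]
      refine hg.symm.trans ?_
      show Ext.comp g (Ext.mk₀ (cokernel.π c ≫ v)) (add_zero 0) = Ext.comp g' (Ext.mk₀ v) (add_zero 0)
      rw [Ext.comp_assoc_of_second_deg_zero, Ext.mk₀_comp_mk₀]
    refine ⟨Ext.mk₀ (kernel.lift v θ hθv), ?_⟩
    show δ (Ext.comp (Ext.mk₀ (kernel.lift v θ hθv)) (Ext.mk₀ w) (add_zero 0)) = δ q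
    rw [Ext.mk₀_comp_mk₀, kernel.lift_ι, hθ, map_sub, hδ, sub_zero]
  -- sections supported at the remaining points
  have hQj : ∀ x, x ∉ S → ZeroAt Q x := fun x hx =>
    EtPBC.zeroAt_cokernel_counit j G (by_contra fun h => hx ((hj x).1 h))
  have hnQ : n • 𝟙 Q = 0 := by
    have hG : n • 𝟙 G = 0 := EtPur.nsmul_id_const n
    rw [← cancel_epi (cokernel.π c), comp_zero, Preadditive.comp_nsmul, Category.comp_id,
      ← Category.id_comp (cokernel.π c), ← Preadditive.nsmul_comp, hG, zero_comp]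
  have hnK : n • 𝟙 (kernel v) = 0 := by
    rw [← cancel_mono w, zero_comp, Preadditive.nsmul_comp, Category.id_comp,
      ← Category.comp_id w, ← Preadditive.comp_nsmul, hnQ, comp_zero]
  have hPz : ∀ y, y ≠ x₀ → ZeroAt P y := fun y hy => EtPBC.zeroAt_skyPush (hS x₀ hx₀) _ hy
  have hKz : ∀ y, y ∉ S.erase x₀ → ZeroAt (kernel v) y := fun y hy => by
    by_cases hy₀ : y = x₀
    · obtain ⟨Ω, _, _, ξ, hξ, hb⟩ := EtPBC.bijective_stalk_unit_at i (EtPushStalk.liftProp_of_closedImmersion i)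
        G default ((Scheme.fromSpecResidueField_apply x₀ default).trans hy₀.symm)
      refine EtPBC.zeroAt_kernel hξ v ?_
      have hz : ZeroAt T.X₁ y := EtPBC.Lam.zeroAt_extZero j _ ((hj y).2 (hy₀ ▸ hx₀))
      haveI : IsIso ((EtCoh.stalk ξ).map (cokernel.π c)) :=
        (hT.map_of_exact (EtCoh.stalk ξ)).isIso_g_iff.2 ((EtPBC.isZero_stalk_iff_zeroAt hξ _).2 hz)
      have e : (EtCoh.stalk ξ).map (cokernel.π c) ≫ (EtCoh.stalk ξ).map v = (EtCoh.stalk ξ).map u := by
        rw [← Functor.map_comp, cokernel.π_desc]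
      haveI : IsIso ((EtCoh.stalk ξ).map u) := (ConcreteCategory.isIso_iff_bijective _).2 hb
      haveI : IsIso ((EtCoh.stalk ξ).map (cokernel.π c) ≫ (EtCoh.stalk ξ).map v) := by rw [e]; infer_instance
      haveI : IsIso ((EtCoh.stalk ξ).map v) := IsIso.of_isIso_comp_left ((EtCoh.stalk ξ).map (cokernel.π c)) _
      exact ((ConcreteCategory.isIso_iff_bijective _).1 inferInstance).1
    · exact EtPBC.zeroAt_of_mono w (hQj y fun h => hy (Finset.mem_erase.2 ⟨hy₀, h⟩))
  have hst : ∀ y ∈ S.erase x₀, Nonempty ((EtCoh.pull (X.fromSpecResidueField y)).obj (kernel v) ≅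
      EtCoh.const (Spec (X.residueField y)) (ZMod n)) := fun y hy => by
    obtain ⟨hne, hyS⟩ := Finset.mem_erase.1 hy
    let t := X.fromSpecResidueField y
    haveI := EtPullExact.pull_preservesFiniteLimits t
    have hz : IsZero ((EtCoh.pull t).obj P) :=
      EtPBC.isZero_of_zeroAt _ fun z => EtPBC.zeroAt_pull t _ z (hPz _ (by
        rw [Scheme.fromSpecResidueField_apply]; exact hne))
    haveI : IsIso ((EtCoh.pull t).map w) := by
      let f := (EtCoh.pull t).map v
      haveI : IsIso (kernel.ι f) :=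
        ⟨kernel.lift f (𝟙 _) (hz.eq_of_tgt _ _), by rw [← cancel_mono (kernel.ι f)]; simp, by simp⟩
      rw [show (EtCoh.pull t).map w = kernelComparison v (EtCoh.pull t) ≫ kernel.ι f from
        (kernelComparison_comp_ι v (EtCoh.pull t)).symm]
      infer_instance
    haveI : IsIso ((EtCoh.pull t).map (cokernel.π c)) := (hT.map_of_exact (EtCoh.pull t)).isIso_g_iff.2 (hpj y hyS)
    exact ⟨asIso ((EtCoh.pull t).map w) ≪≫ (asIso ((EtCoh.pull t).map (cokernel.π c))).symm ≪≫
      EtCore.pullConst t (ZMod n)⟩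
  obtain ⟨eK⟩ := EtPur.nonempty_H_zero_skyscrapers n (S.erase x₀) (fun y hy => hS y (Finset.mem_of_mem_erase hy))
    (fun y hy => hsep y (Finset.mem_of_mem_erase hy)) (kernel v) hnK hKz hst
  have hcard : Fintype.card ↥(S.erase x₀) = S.card - 1 := by
    rw [Fintype.card_coe, Finset.card_erase_of_mem hx₀]
  let σ : ↥(S.erase x₀) ≃ Fin (S.card - 1) := Fintype.equivFinOfCardEq hcard
  exact ⟨((AddEquiv.ofBijective a ⟨hai, has⟩).symm.trans eK).trans (AddEquiv.arrowCongr σ (AddEquiv.refl _))⟩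

end Groth.Agent.EtPunctLine
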